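import Groth.Agent.ComodLib.StableLocus
import Groth.Agent.FinGrpLib.LocalOrder
import Groth.Agent.FinGrpLib.Order
import Mathlib

/-!
Deligne's theorem over a field, noncommutative case: a finite group scheme is killed by its order.
-/

set_option autoImplicit false
universe u v

open TensorProduct WithConv

namespace Groth.Agent.DeligneLib

variable {k : Type u} [Field k] {A : Type v} [CommRing A] [HopfAlgebra k A]

theorem finrank_quot_le_of_le {I J : Ideal A} [Module.Finite k A] (h : I ≤ J) :
    Module.finrank k (A ⧸ J) ≤ Module.finrank k (A ⧸ I) := by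
  have hs : Function.Surjective (Ideal.Quotient.factorₐ k h) := Ideal.Quotient.factor_surjective h
  exact LinearMap.finrank_le_finrank_of_surjective (f := (Ideal.Quotient.factorₐ k h).toLinearMap) hs

theorem finrank_quot_lt_of_lt {I J : Ideal A} [Module.Finite k A] (h : I < J) :
    Module.finrank k (A ⧸ J) < Module.finrank k (A ⧸ I) := by
  have h1 := Submodule.finrank_lt_finrank_of_lt (K := k)
    (s := I.restrictScalars k) (t := J.restrictScalars k) h
  have h2 := Submodule.finrank_quotient_add_finrank (I.restrictScalars k)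
  have h3 := Submodule.finrank_quotient_add_finrank (J.restrictScalars k)
  have e : ∀ L : Ideal A, Module.finrank k (A ⧸ L.restrictScalars k) = Module.finrank k (A ⧸ L) := fun L =>
    (Submodule.Quotient.restrictScalarsEquiv k L).finrank_eq
  rw [e] at h2 h3
  omega

/-- The stable power of an ideal is reached at the colength of the stable power. -/
theorem pow_finrank_le [Module.Finite k A] (M : Ideal A) (N : ℕ) (hN : ∀ j, N ≤ j → M ^ j = M ^ N) :
    M ^ Module.finrank k (A ⧸ M ^ N) ≤ M ^ N := by
  have key : ∀ j, ¬ M ^ j ≤ M ^ N → j < Module.finrank k (A ⧸ M ^ N) := by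
    intro j
    suffices ¬ M ^ j ≤ M ^ N → j + 1 ≤ Module.finrank k (A ⧸ M ^ (j + 1)) from fun hj => by
      have hle : M ^ N ≤ M ^ (j + 1) := (hN (max N (j + 1)) (le_max_left _ _)).symm.le.trans
        (Ideal.pow_le_pow_right (le_max_right _ _))
      exact lt_of_lt_of_le (Nat.lt_succ_self j) ((this hj).trans (finrank_quot_le_of_le hle))
    induction j with
    | zero =>
      intro hj
      have hlt : M ^ 1 < M ^ 0 := lt_of_le_of_ne (Ideal.pow_le_pow_right zero_le_one) fun he => hj (by
        have h1 : ∀ i, M ^ i = M ^ 0 := fun i => by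
          induction i with
          | zero => rfl
          | succ i ih => rw [pow_succ, ih, ← pow_succ, zero_add, he]
        rw [h1 N])
      have := finrank_quot_lt_of_lt (k := k) hlt
      show 1 ≤ Module.finrank k (A ⧸ M ^ 1)
      omega
    | succ j ih =>
      intro hj
      have hlt : M ^ (j + 1 + 1) < M ^ (j + 1) := lt_of_le_of_ne (Ideal.pow_le_pow_right (Nat.le_succ _)) fun he => hj (by
        have h1 : ∀ i, M ^ (j + 1 + i) = M ^ (j + 1) := fun i => by
          induction i with
          | zero => rfl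
          | succ i ih => rw [← add_assoc, pow_succ, ih, ← pow_succ, he]
        rw [← hN (j + 1 + N) (Nat.le_add_left _ _), h1 N])
      have := finrank_quot_lt_of_lt (k := k) hlt
      have := ih fun h => hj ((Ideal.pow_le_pow_right (Nat.le_succ _)).trans h)
      omega
  by_contra h
  exact lt_irrefl _ (key _ h)

theorem counit_comp_translatePt (g : A →ₐ[k] k) :
    (Bialgebra.counitAlgHom k A).comp (ComodLib.translatePt g) = g := by
  refine AlgHom.ext fun a => ?_
  show Coalgebra.counit (R := k) (Algebra.TensorProduct.lid k A (Algebra.TensorProduct.map g (AlgHom.id k A)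
    (Coalgebra.comul (R := k) a))) = g a
  have h : ∀ y : A ⊗[k] A, Coalgebra.counit (R := k) (Algebra.TensorProduct.lid k A
      (Algebra.TensorProduct.map g (AlgHom.id k A) y)) =
      g (TensorProduct.rid k A ((Coalgebra.counit (R := k)).lTensor A y)) := fun y => by
    induction y using TensorProduct.induction_on with
    | zero => simp
    | tmul p q => simp [mul_comm]
    | add p q hp hq => simp only [map_add, hp, hq]
  rw [h, Coalgebra.lTensor_counit_comul]
  simp

/-- Translation as an automorphism. -/
noncomputable def translateEquiv (g : A →ₐ[k] k) : A ≃ₐ[k] A :=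
  AlgEquiv.ofAlgHom (ComodLib.translatePt g) (ComodLib.translatePt (toConv g)⁻¹.ofConv)
    (by rw [ComodLib.translatePt_comp, toConv_ofConv, inv_mul_cancel]; exact ComodLib.translatePt_counit)
    (by rw [ComodLib.translatePt_comp, toConv_ofConv, mul_inv_cancel]; exact ComodLib.translatePt_counit)

theorem map_translateEquiv (g : A →ₐ[k] k) (N : ℕ) :
    Ideal.map (translateEquiv g : A →+* A) (RingHom.ker g ^ N) =
      RingHom.ker (Bialgebra.counitAlgHom k A) ^ N := by
  rw [Ideal.map_pow]
  congr 1
  ext a
  rw [Ideal.mem_map_iff_of_surjective (translateEquiv g : A →+* A) (translateEquiv g).surjective]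
  refine ⟨?_, fun ha => ⟨(translateEquiv g).symm a, ?_, (translateEquiv g).apply_symm_apply a⟩⟩
  · rintro ⟨b, hb, rfl⟩
    exact (AlgHom.congr_fun (counit_comp_translatePt g) b).trans hb
  · rw [RingHom.mem_ker, ← AlgHom.congr_fun (counit_comp_translatePt g)]
    show Bialgebra.counitAlgHom k A (translateEquiv g ((translateEquiv g).symm a)) = 0
    rw [AlgEquiv.apply_symm_apply]
    exact ha

variable [IsAlgClosed k] [Module.Finite k A]

theorem finite_points : Finite (A →ₐ[k] k) := by
  haveI : IsArtinianRing A := isArtinian_of_tower k inferInstance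
  haveI : ∀ g : A →ₐ[k] k, (RingHom.ker g).IsMaximal := fun g =>
    RingHom.ker_isMaximal_of_surjective g fun x => ⟨algebraMap k A x, by simp⟩
  refine Finite.of_injective (fun g : A →ₐ[k] k => (⟨RingHom.ker g, inferInstance⟩ : MaximalSpectrum A)) fun g g' h => ?_
  refine AlgHom.ext fun a => ?_
  have hk : RingHom.ker g = RingHom.ker g' := congrArg MaximalSpectrum.asIdeal h
  have : a - algebraMap k A (g a) ∈ RingHom.ker g' := hk ▸ (by simp [RingHom.mem_ker])
  rw [RingHom.mem_ker, map_sub, AlgHom.commutes, sub_eq_zero] at this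
  exact this.symm

/-- The points and the colength of the connected component. -/
theorem exists_component : ∃ N : ℕ,
    (∀ j, N ≤ j → RingHom.ker (Bialgebra.counitAlgHom k A) ^ j = RingHom.ker (Bialgebra.counitAlgHom k A) ^ N) ∧
    0 < N ∧ Module.finrank k A =
      Nat.card (A →ₐ[k] k) * Module.finrank k (A ⧸ RingHom.ker (Bialgebra.counitAlgHom k A) ^ N) ∧
    ∀ a : A, (∀ g : A →ₐ[k] k, g a = 0) → a ^ N = 0 := by
  classical
  haveI : IsArtinianRing A := isArtinian_of_tower k inferInstance
  haveI := finite_points (k := k) (A := A)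
  haveI := Fintype.ofFinite (A →ₐ[k] k)
  set M := RingHom.ker (Bialgebra.counitAlgHom k A)
  obtain ⟨N₁, hN₁⟩ := IsArtinian.monotone_stabilizes
    (⟨fun j => OrderDual.toDual (M ^ j : Submodule A A), fun i j h => Ideal.pow_le_pow_right h⟩ :
      ℕ →o (Submodule A A)ᵒᵈ)
  obtain ⟨N₂, hN₂⟩ := IsArtinianRing.isNilpotent_jacobson_bot (R := A)
  have hpt : ∀ m : Ideal A, m.IsMaximal → ∃ g : A →ₐ[k] k, RingHom.ker g = m := fun m hm => by
    obtain ⟨g, hg⟩ := ComodLib.exists_point (k := k) m hm.ne_top
    exact ⟨g, (hm.eq_of_le (RingHom.ker_ne_top _) hg).symm⟩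
  have hjac : (⨅ g : A →ₐ[k] k, RingHom.ker g) ≤ Ideal.jacobson (⊥ : Ideal A) := by
    refine le_sInf fun m hm => ?_
    obtain ⟨g, rfl⟩ := hpt m hm.2
    exact iInf_le _ g
  let N := N₁ + N₂ + 1
  have hstab : ∀ j, N ≤ j → M ^ j = M ^ N := fun j hj => by
    have h1 := hN₁ j (by omega)
    have h2 := hN₁ N (by omega)
    exact (OrderDual.toDual.injective h1).symm.trans (OrderDual.toDual.injective h2)
  refine ⟨N, hstab, Nat.succ_pos _, ?_, fun a ha => ?_⟩
  · have hmax : ∀ g : A →ₐ[k] k, (RingHom.ker g).IsMaximal := fun g =>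
      RingHom.ker_isMaximal_of_surjective g fun x => ⟨algebraMap k A x, by simp⟩
    let I : (A →ₐ[k] k) → Ideal A := fun g => RingHom.ker g ^ N
    have hcop : Pairwise (Function.onFun IsCoprime I) := fun g g' hne => by
      refine IsCoprime.pow ?_
      haveI := hmax g
      haveI := hmax g'
      refine Ideal.isCoprime_of_isMaximal fun he => hne (AlgHom.ext fun a => ?_)
      have : a - algebraMap k A (g a) ∈ RingHom.ker g' := he ▸ (by simp [RingHom.mem_ker])
      rw [RingHom.mem_ker, map_sub, AlgHom.commutes, sub_eq_zero] at this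
      exact this.symm
    let φ : A →ₗ[k] ∀ g, A ⧸ I g := LinearMap.pi fun g => (Ideal.Quotient.mkₐ k (I g)).toLinearMap
    have hsurj : Function.Surjective φ := fun x => by
      obtain ⟨r, hr⟩ := Ideal.pi_quotient_surjective hcop x
      exact ⟨r, funext hr⟩
    have hinj : Function.Injective φ := by
      rw [injective_iff_map_eq_zero]
      intro a ha
      have hmem : a ∈ ⨅ g, I g := (Submodule.mem_iInf _).2 fun g => Ideal.Quotient.eq_zero_iff_mem.1 (congrFun ha g)
      have hle : (⨅ g, I g) ≤ Ideal.jacobson (⊥ : Ideal A) ^ N := by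
        rw [show (⨅ g, I g) = ⨅ g ∈ (Finset.univ : Finset (A →ₐ[k] k)), I g by simp, ← Ideal.prod_eq_iInf_of_pairwise_isCoprime (fun i _ j _ h => hcop h)]
        simp only [I]
        rw [Finset.prod_pow]
        refine Ideal.pow_right_mono ?_ N
        exact le_trans Ideal.prod_le_inf (by rw [Finset.inf_univ_eq_iInf]; exact hjac)
      have h0 : Ideal.jacobson (⊥ : Ideal A) ^ N = ⊥ := by
        rw [show N = N₂ + (N₁ + 1) by omega, pow_add, hN₂, zero_mul]; rfl
      exact (Submodule.mem_bot A).1 (h0 ▸ hle hmem)
    have hdim : ∀ g : A →ₐ[k] k, Module.finrank k (A ⧸ I g) = Module.finrank k (A ⧸ M ^ N) := fun g =>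
      (Ideal.quotientEquivAlg (I g) (M ^ N) (translateEquiv g) (map_translateEquiv g N).symm).toLinearEquiv.finrank_eq
    rw [(LinearEquiv.ofBijective φ ⟨hinj, hsurj⟩).finrank_eq, Module.finrank_pi_fintype, Finset.sum_congr rfl
      (fun g _ => hdim g), Finset.sum_const, Finset.card_univ, Nat.card_eq_fintype_card, smul_eq_mul]
  · have h1 : a ∈ Ideal.jacobson (⊥ : Ideal A) := hjac ((Submodule.mem_iInf _).2 ha)
    have h2 : Ideal.jacobson (⊥ : Ideal A) ^ N = ⊥ := by
      rw [show N = N₂ + (N₁ + 1) by omega, pow_add, hN₂, zero_mul]; rfl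
    exact (Submodule.mem_bot A).1 (h2 ▸ Ideal.pow_mem_pow h1 N)

/-- The colength of the connected component is a power of the characteristic exponent. -/
theorem exists_eq_pow (N : ℕ) (hN0 : 0 < N)
    (hN : ∀ j, N ≤ j → RingHom.ker (Bialgebra.counitAlgHom k A) ^ j = RingHom.ker (Bialgebra.counitAlgHom k A) ^ N) :
    ∃ e, Module.finrank k (A ⧸ RingHom.ker (Bialgebra.counitAlgHom k A) ^ N) = ringExpChar k ^ e := by
  classical
  set M := RingHom.ker (Bialgebra.counitAlgHom k A) with hM
  let Q := A ⧸ M ^ N
  let π : A →ₐ[k] Q := Ideal.Quotient.mkₐ k (M ^ N)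
  let ε : Q →ₐ[k] k := Ideal.Quotient.liftₐ (M ^ N) (Bialgebra.counitAlgHom k A)
    (fun a ha => Ideal.pow_le_self hN0.ne' ha)
  haveI : M.IsMaximal := RingHom.ker_isMaximal_of_surjective _ fun x => ⟨algebraMap k A x, by simp⟩
  haveI : IsLocalRing Q := by
    refine IsLocalRing.of_unique_max_ideal ⟨M.map (Ideal.Quotient.mk (M ^ N)), ?_, fun m hm => ?_⟩
    · refine (Ideal.IsMaximal.map_of_surjective_of_ker_le Ideal.Quotient.mk_surjective ?_)
      rw [Ideal.mk_ker]; exact Ideal.pow_le_self hN0.ne'
    · haveI := hm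
      have h1 : (m.comap (Ideal.Quotient.mk (M ^ N))).IsMaximal :=
        Ideal.comap_isMaximal_of_surjective _ Ideal.Quotient.mk_surjective
      have h2 : M ^ N ≤ m.comap (Ideal.Quotient.mk (M ^ N)) := fun a ha => by
        show Ideal.Quotient.mk (M ^ N) a ∈ m
        rw [Ideal.Quotient.eq_zero_iff_mem.2 ha]; exact m.zero_mem
      have h3 : M = m.comap (Ideal.Quotient.mk (M ^ N)) :=
        (inferInstance : M.IsMaximal).eq_of_le h1.ne_top (Ideal.IsPrime.le_of_pow_le h2)
      exact (Ideal.map_comap_of_surjective (Ideal.Quotient.mk (M ^ N)) Ideal.Quotient.mk_surjective m).symm.trans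
        (congrArg _ h3.symm)
  let K : Ideal (Q ⊗[k] Q) := Ideal.map (Algebra.TensorProduct.includeLeft : Q →ₐ[k] Q ⊗[k] Q) (M.map (Ideal.Quotient.mk (M ^ N))) ⊔
    Ideal.map (Algebra.TensorProduct.includeRight : Q →ₐ[k] Q ⊗[k] Q) (M.map (Ideal.Quotient.mk (M ^ N)))
  have hQ0 : (M.map (Ideal.Quotient.mk (M ^ N))) ^ N = ⊥ := by
    rw [← Ideal.map_pow, Ideal.map_quotient_self]
  have hKnil : K ^ (N + N) = ⊥ := by
    refine le_bot_iff.1 ((Ideal.sup_pow_add_le_pow_sup_pow (n := N) (m := N)).trans ?_)
    rw [← Ideal.map_pow, hQ0, ← Ideal.map_pow, hQ0, Ideal.map_bot, Ideal.map_bot, sup_bot_eq]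
  let Δ₀ : A →ₐ[k] Q ⊗[k] Q := (Algebra.TensorProduct.map π π).comp (Bialgebra.comulAlgHom k A)
  have hΔM : Ideal.map Δ₀ M ≤ K := by
    rw [Ideal.map_le_iff_le_comap]
    intro a ha
    have e : ∀ z : A ⊗[k] A, Algebra.TensorProduct.map π π z -
        algebraMap k (Q ⊗[k] Q) (Bialgebra.counitAlgHom k A (TensorProduct.rid k A ((Coalgebra.counit (R := k)).lTensor A z))) ∈ K := by
      intro z
      induction z using TensorProduct.induction_on with
      | zero => simp
      | add p q hp hq =>
        simp only [map_add]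
        rw [add_sub_add_comm]
        exact K.add_mem hp hq
      | tmul x y =>
        set cx := Bialgebra.counitAlgHom k A x
        set cy := Bialgebra.counitAlgHom k A y
        have hx : π (x - algebraMap k A cx) ∈ M.map (Ideal.Quotient.mk (M ^ N)) :=
          Ideal.mem_map_of_mem _ (show x - algebraMap k A cx ∈ M by simp [hM, RingHom.mem_ker, cx])
        have hy : π (y - algebraMap k A cy) ∈ M.map (Ideal.Quotient.mk (M ^ N)) :=
          Ideal.mem_map_of_mem _ (show y - algebraMap k A cy ∈ M by simp [hM, RingHom.mem_ker, cy])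
        have h1 : Algebra.TensorProduct.map π π (x ⊗ₜ[k] y) -
            algebraMap k (Q ⊗[k] Q) (Bialgebra.counitAlgHom k A (TensorProduct.rid k A
              ((Coalgebra.counit (R := k)).lTensor A (x ⊗ₜ[k] y)))) =
            (Algebra.TensorProduct.includeLeft : Q →ₐ[k] Q ⊗[k] Q) (π (x - algebraMap k A cx)) *
              (Algebra.TensorProduct.includeRight : Q →ₐ[k] Q ⊗[k] Q) (π y) +
            algebraMap k (Q ⊗[k] Q) cx *
              (Algebra.TensorProduct.includeRight : Q →ₐ[k] Q ⊗[k] Q) (π (y - algebraMap k A cy)) := by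
          simp only [LinearMap.lTensor_tmul, TensorProduct.rid_tmul, map_smul, smul_eq_mul, map_mul, map_sub,
            AlgHom.commutes, show Coalgebra.counit (R := k) y = cy from rfl]
          simp [Algebra.TensorProduct.map_tmul]
          simp only [show Coalgebra.counit (R := k) x = cx from rfl, ← Algebra.TensorProduct.algebraMap_apply, sub_mul,
            Algebra.TensorProduct.tmul_mul_tmul, mul_one, one_mul]
          ring
        rw [h1]
        exact K.add_mem (K.mul_mem_right _ (le_sup_left (α := Ideal (Q ⊗[k] Q)) (Ideal.mem_map_of_mem _ hx)))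
          (K.mul_mem_left _ (le_sup_right (α := Ideal (Q ⊗[k] Q)) (Ideal.mem_map_of_mem _ hy)))
    have h := e (Coalgebra.comul (R := k) a)
    rw [Coalgebra.lTensor_counit_comul] at h
    simpa [show Bialgebra.counitAlgHom k A a = 0 from ha, Δ₀] using h
  let Δ : Q →ₐ[k] Q ⊗[k] Q := Ideal.Quotient.liftₐ (M ^ N) Δ₀ fun a ha => by
    rw [← hN (N + N) (Nat.le_add_left _ _)] at ha
    have h := Ideal.mem_map_of_mem Δ₀ ha
    rw [Ideal.map_pow] at h
    exact (Submodule.mem_bot _).1 (hKnil.le (Ideal.pow_right_mono hΔM _ h))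
  have hε : ∀ a, ε (π a) = Coalgebra.counit (R := k) a := fun a => rfl
  let c : FinGrpLib.CounitalComul k Q :=
    { ε := ε
      Δ := Δ
      lid := fun b => by
        obtain ⟨a, rfl⟩ := Ideal.Quotient.mk_surjective b
        show Algebra.TensorProduct.lift ((Algebra.ofId k Q).comp ε) (AlgHom.id k Q) (fun _ _ => .all _ _)
          (Algebra.TensorProduct.map π π (Coalgebra.comul (R := k) a)) = π a
        have h : ∀ z : A ⊗[k] A, Algebra.TensorProduct.lift ((Algebra.ofId k Q).comp ε) (AlgHom.id k Q) (fun _ _ => .all _ _)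
            (Algebra.TensorProduct.map π π z) = π (TensorProduct.lid k A ((Coalgebra.counit (R := k)).rTensor A z)) := fun z => by
          induction z using TensorProduct.induction_on with
          | zero => simp
          | tmul x y =>
            simp [Algebra.smul_def, hε]
          | add p q hp hq => simp only [map_add, hp, hq]
        rw [h, Coalgebra.rTensor_counit_comul]
        simp
      rid := fun b => by
        obtain ⟨a, rfl⟩ := Ideal.Quotient.mk_surjective b
        show Algebra.TensorProduct.lift (AlgHom.id k Q) ((Algebra.ofId k Q).comp ε) (fun _ _ => .all _ _)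
          (Algebra.TensorProduct.map π π (Coalgebra.comul (R := k) a)) = π a
        have h : ∀ z : A ⊗[k] A, Algebra.TensorProduct.lift (AlgHom.id k Q) ((Algebra.ofId k Q).comp ε) (fun _ _ => .all _ _)
            (Algebra.TensorProduct.map π π z) = π (TensorProduct.rid k A ((Coalgebra.counit (R := k)).lTensor A z)) := fun z => by
          induction z using TensorProduct.induction_on with
          | zero => simp
          | tmul x y =>
            simp [Algebra.smul_def, hε, mul_comm]
          | add p q hp hq => simp only [map_add, hp, hq]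
        rw [h, Coalgebra.lTensor_counit_comul]
        simp }
  haveI : ExpChar k (ringExpChar k) := ringExpChar.expChar k
  exact FinGrpLib.finrank_local_eq_pow (ringExpChar k) c

/-- A finite group scheme over an algebraically closed field is killed by its order. -/
theorem convPow_finrank_eq_one : toConv (AlgHom.id k A) ^ Module.finrank k A = 1 := by
  classical
  haveI := finite_points (k := k) (A := A)
  obtain ⟨N, hN, hN0, hdim, hnil⟩ := exists_component (k := k) (A := A)
  obtain ⟨e, he⟩ := exists_eq_pow (k := k) (A := A) N hN0 hN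
  set M := RingHom.ker (Bialgebra.counitAlgHom k A) with hM
  set m := Nat.card (A →ₐ[k] k)
  set q := Module.finrank k (A ⧸ M ^ N)
  set h := toConv (AlgHom.id k A) ^ m with hh
  rw [hdim, pow_mul, ← hh]
  -- the points of `h` are trivial
  have hcomp : ∀ (g : A →ₐ[k] k) (j : ℕ), g.comp (toConv (AlgHom.id k A) ^ j).ofConv = (toConv g ^ j).ofConv := by
    intro g j
    induction j with
    | zero => exact AlgHom.ext fun a => by simp
    | succ j ih =>
      rw [pow_succ, AlgHom.comp_convMul_distrib, ih, pow_succ]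
      rfl
  have hgm : ∀ g : A →ₐ[k] k, g.comp h.ofConv = Bialgebra.counitAlgHom k A := fun g => by
    haveI : Finite (WithConv (A →ₐ[k] k)) := Finite.of_equiv _ (WithConv.equiv _).symm
    rw [hh, hcomp, show m = Nat.card (WithConv (A →ₐ[k] k)) from (Nat.card_congr (WithConv.equiv _)).symm,
      pow_card_eq_one']
    exact AlgHom.ext fun a => by simp
  let J : Ideal A := Ideal.map h.ofConv M
  have hJnil : M.map h.ofConv ≤ Ideal.radical (⊥ : Ideal A) := by
    rw [Ideal.map_le_iff_le_comap]
    intro a ha
    refine ⟨N, ?_⟩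
    show (h.ofConv a) ^ N ∈ (⊥ : Ideal A)
    exact (Submodule.mem_bot A).2 (hnil _ fun g => (AlgHom.congr_fun (hgm g) a).trans ha)
  haveI : IsNoetherianRing A := isNoetherian_of_tower k inferInstance
  obtain ⟨r, hr⟩ := Ideal.exists_radical_pow_le_of_fg (⊥ : Ideal A) (IsNoetherian.noetherian _)
  have hJq : J ^ q = ⊥ := by
    refine le_bot_iff.1 ?_
    have hM' : M ^ N = M ^ (N + r) := (hN _ (Nat.le_add_right _ _)).symm
    calc J ^ q = Ideal.map h.ofConv (M ^ q) := (Ideal.map_pow _ _ _).symm
      _ ≤ Ideal.map h.ofConv (M ^ N) := Ideal.map_mono (pow_finrank_le (k := k) M N hN)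
      _ = J ^ (N + r) := by rw [hM', Ideal.map_pow]
      _ ≤ J ^ r := Ideal.pow_le_pow_right (Nat.le_add_left _ _)
      _ ≤ Ideal.radical ⊥ ^ r := Ideal.pow_right_mono hJnil r
      _ ≤ ⊥ := hr
  let θ : WithConv (A →ₗ[k] A) := toConv h.ofConv.toLinearMap - 1
  have hθ : ∀ (j : ℕ) (a : A), 0 < j → (θ ^ j).ofConv a ∈ J ^ j := by
    have h1 : ∀ a, θ.ofConv a ∈ J := fun a => by
      have : θ.ofConv a = h.ofConv (a - algebraMap k A (Bialgebra.counitAlgHom k A a)) := by
        rw [map_sub, AlgHom.commutes]
        simp [θ]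
      rw [this]
      exact Ideal.mem_map_of_mem _ (by simp [hM, RingHom.mem_ker])
    intro j
    induction j with
    | zero => intro a ha; omega
    | succ j ih =>
      intro a _
      rcases Nat.eq_zero_or_pos j with rfl | hj
      · simpa using h1 a
      rw [show θ ^ (j + 1) = θ ^ j * θ from pow_succ _ _, LinearMap.convMul_def, ofConv_toConv, LinearMap.comp_apply, LinearMap.comp_apply]
      generalize Coalgebra.comul (R := k) a = z
      induction z using TensorProduct.induction_on with
      | zero => simp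
      | tmul x y =>
        rw [TensorProduct.map_tmul, LinearMap.mul'_apply, pow_succ]
        exact Ideal.mul_mem_mul (ih x hj) (h1 y)
      | add x y hx hy => simp only [map_add]; exact Ideal.add_mem _ hx hy
  have hfr : 0 < q := by
    rcases Nat.eq_zero_or_pos q with h0 | h0
    · exfalso
      haveI : Subsingleton (A ⧸ M ^ N) := Module.finrank_zero_iff.1 h0
      have : M ^ N = ⊤ := Ideal.Quotient.subsingleton_iff.1 inferInstance
      exact RingHom.ker_ne_top (Bialgebra.counitAlgHom k A) (top_le_iff.1 (this ▸ Ideal.pow_le_self hN0.ne'))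
    · exact h0
  have hθq : θ ^ q = 0 := by
    apply WithConv.ofConv_injective
    refine LinearMap.ext fun a => ?_
    exact (Submodule.mem_bot A).1 (hJq ▸ hθ q a hfr)
  have hlin : toConv (h ^ q).ofConv.toLinearMap = toConv (1 : WithConv (A →ₐ[k] A)).ofConv.toLinearMap := by
    rw [AlgHom.toLinearMap_convPow, AlgHom.toLinearMap_convOne, show toConv h.ofConv.toLinearMap = 1 + θ by simp [θ]]
    rw [he] at hθq ⊢
    rcases expChar_is_prime_or_one k (ringExpChar k) with hp | h1
    · haveI : Fact (ringExpChar k).Prime := ⟨hp⟩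
      obtain ⟨y, hy⟩ := (Commute.one_left θ).exists_add_pow_prime_pow_eq hp e
      rw [hy, one_pow, hθq, add_zero]
      have hp0 : ((ringExpChar k : ℕ) : k) = 0 := by
        obtain ⟨q', hq'⟩ := CharP.exists k
        rcases Nat.eq_zero_or_pos q' with rfl | hpos
        · haveI := CharP.charP_to_charZero k
          exact absurd (ringExpChar.eq_one k ▸ hp) Nat.not_prime_one
        · have : Fact q'.Prime := ⟨(CharP.char_is_prime_or_zero k q').resolve_right (by omega)⟩
          rw [ringExpChar.eq k q']
          exact CharP.cast_eq_zero k q'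
      have : ((ringExpChar k : ℕ) : WithConv (A →ₗ[k] A)) = 0 := by
        rw [← map_natCast (algebraMap k (WithConv (A →ₗ[k] A))), hp0, map_zero]
      rw [this]; simp
    · rw [h1, one_pow, pow_one] at hθq ⊢
      rw [hθq, add_zero]
  exact WithConv.ofConv_injective (AlgHom.toLinearMap_injective (WithConv.toConv_injective hlin))

end Groth.Agent.DeligneLib
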