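import Mathlib.CategoryTheory.Sites.Point.OfIsCofiltered
import Mathlib.CategoryTheory.Sites.Point.Conservative
import Mathlib.CategoryTheory.Sites.Over
import Mathlib.CategoryTheory.Sites.CoversTop.Basic
import Mathlib.CategoryTheory.Sites.LeftExact

/-!
# Having enough points is local
-/

set_option autoImplicit false
set_option backward.isDefEq.respectTransparency false
set_option linter.unusedVariables false

universe u

open CategoryTheory CategoryTheory.Limits Opposite GrothendieckTopology.Point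

namespace Groth.Agent.DeligneLib

variable {C : Type u} [SmallCategory C] {J : GrothendieckTopology C} {X : C}

/-- The functor underlying the image of a point of a slice site. -/
noncomputable abbrev imgFun (Φ : GrothendieckTopology.Point.{u} (J.over X)) : Φ.fiber.Elements ⥤ C :=
  CategoryOfElements.π Φ.fiber ⋙ Over.forget X

theorem imgFun_lifts (Φ : GrothendieckTopology.Point.{u} (J.over X)) ⦃Y : C⦄ (R : Sieve Y) (hR : R ∈ J Y)
    ⦃U : Φ.fiber.Elements⦄ (f : (imgFun Φ).obj U ⟶ Y) :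
    ∃ (Z : C) (g : Z ⟶ Y) (_ : R g) (V : Φ.fiber.Elements) (q : V ⟶ U) (a : (imgFun Φ).obj V ⟶ Z),
      a ≫ g = (imgFun Φ).map q ≫ f := by
  have hR' : (Sieve.overEquiv U.1).symm (R.pullback f) ∈ (J.over X) U.1 := by
    rw [GrothendieckTopology.mem_over_iff, OrderIso.apply_symm_apply]
    exact J.pullback_stable f hR
  obtain ⟨W, h, hh, w, hw⟩ := Φ.jointly_surjective _ hR' U.2
  exact ⟨W.left, h.left ≫ f, hh, Φ.fiber.elementsMk W w, CategoryOfElements.homMk _ _ h hw, 𝟙 _, by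
    simp [imgFun]⟩

/-- The image of a point of a slice site. -/
noncomputable def imgPoint (Φ : GrothendieckTopology.Point.{u} (J.over X)) : GrothendieckTopology.Point.{u} J :=
  ofIsCofiltered (imgFun Φ) (imgFun_lifts Φ)

theorem hasEnoughPoints_of_coversTop {ι : Type u} (X : ι → C) (hX : J.CoversTop X)
    (h : ∀ i, GrothendieckTopology.HasEnoughPoints.{u} (J.over (X i))) :
    GrothendieckTopology.HasEnoughPoints.{u} J := by
  choose P hsmall hP using fun i => (h i).exists_objectProperty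
  haveI : ∀ i, Small.{u} (P i).FullSubcategory := fun i => by
    haveI := hsmall i
    exact small_of_surjective (f := fun s : Subtype (P i) => (⟨s.1, s.2⟩ : (P i).FullSubcategory))
      fun s => ⟨⟨s.obj, s.property⟩, rfl⟩
  let κ := Σ i, Shrink.{u} (P i).FullSubcategory
  let Ψ : κ → GrothendieckTopology.Point.{u} J := fun k => imgPoint ((equivShrink _).symm k.2).obj
  refine ⟨ObjectProperty.ofObj Ψ, inferInstance, ObjectProperty.IsConservativeFamilyOfPoints.mk' fun {Y} S hS => ?_⟩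
  refine J.transitive (hX Y) S fun W h₀ hh₀ => ?_
  obtain ⟨i, ⟨t⟩⟩ := hh₀
  suffices H : (Sieve.overEquiv (Over.mk t)).symm (S.pullback h₀) ∈ (J.over (X i)) (Over.mk t) by
    rwa [GrothendieckTopology.mem_over_iff, OrderIso.apply_symm_apply] at H
  obtain ⟨σ, Z, g, hg⟩ := Sieve.exists_eq_ofArrows ((Sieve.overEquiv (Over.mk t)).symm (S.pullback h₀))
  rw [hg, (hP i).jointly_reflect_ofArrows_mem_of_small]
  intro Φ z
  let s : Shrink.{u} (P i).FullSubcategory := equivShrink _ Φ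
  have hs : (equivShrink _).symm s = Φ := Equiv.symm_apply_apply _ _
  obtain ⟨Φ', hΦ', hΨ⟩ : ∃ Φ' : (ObjectProperty.ofObj Ψ).FullSubcategory, True ∧ Φ'.obj = imgPoint Φ.obj :=
    ⟨⟨Ψ ⟨i, s⟩, ObjectProperty.ofObj_apply Ψ _⟩, trivial, by simp only [Ψ, hs]⟩
  have hS' := hS Φ'
  rw [hΨ] at hS'
  obtain ⟨Z', g', hg', y, hy⟩ := hS' (ofIsCofiltered.fiberMk (p := imgFun Φ.obj)
    (U := Φ.obj.fiber.elementsMk (Over.mk t) z) h₀)
  obtain ⟨U, q, rfl⟩ := ofIsCofiltered.fiberMk_jointly_surjective (p := imgFun Φ.obj) y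
  obtain ⟨m, ⟨a⟩, ⟨b⟩⟩ : ∃ m : Φ.obj.fiber.Elements, Nonempty (m ⟶ U) ∧
      Nonempty (m ⟶ Φ.obj.fiber.elementsMk (Over.mk t) z) :=
    ⟨IsCofiltered.min _ _, ⟨IsCofiltered.minToLeft _ _⟩, ⟨IsCofiltered.minToRight _ _⟩⟩
  have heq : ofIsCofiltered.fiberMk (p := imgFun Φ.obj) ((imgFun Φ.obj).map a ≫ q ≫ g') =
      ofIsCofiltered.fiberMk (p := imgFun Φ.obj) ((imgFun Φ.obj).map b ≫ h₀) := by
    rw [ofIsCofiltered.fiberMk_map_comp, ofIsCofiltered.fiberMk_map_comp]
    exact (ofIsCofiltered.fiber_map_fiberMk (imgFun Φ.obj) q g').symm.trans hy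
  obtain ⟨V, w, hw⟩ := ofIsCofiltered.exists_of_fiberMk_eq_fiberMk heq
  let l : V.1 ⟶ Over.mk t := (w ≫ b).1
  have hl : (Sieve.overEquiv (Over.mk t)).symm (S.pullback h₀) l := by
    rw [Sieve.overEquiv_symm_iff]
    show S (l.left ≫ h₀)
    have e : l.left ≫ h₀ = ((imgFun Φ.obj).map w ≫ (imgFun Φ.obj).map a ≫ q) ≫ g' := by
      rw [Category.assoc, Category.assoc, hw]
      simp [l, imgFun]
    rw [e]
    exact S.downward_closed hg' _
  rw [hg] at hl
  obtain ⟨_, c, _, ⟨k⟩, hk⟩ := hl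
  refine ⟨k, Φ.obj.fiber.map c V.2, ?_⟩
  rw [← Functor.map_comp_apply, hk]
  exact (w ≫ b).2

end Groth.Agent.DeligneLib
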