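import Groth.Agent.DeligneLib.Round
import Mathlib.CategoryTheory.Sites.Point.Conservative
import Mathlib.CategoryTheory.Functor.OfSequence
import Mathlib.CategoryTheory.Sites.LeftExact
import Mathlib.CategoryTheory.Limits.FunctorCategory.Basic

/-!
# Deligne's theorem: sites with finite covers have enough points
-/

set_option autoImplicit false
set_option backward.isDefEq.respectTransparency false
set_option linter.unusedVariables false

universe u

open CategoryTheory CategoryTheory.Limits Opposite GrothendieckTopology.Point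

namespace Groth.Agent.DeligneLib

variable {C : Type u} [SmallCategory C] [HasFiniteLimits C] {J : GrothendieckTopology C} {U : C} (S : Sieve U)

variable (J) in
/-- A stage of the construction. -/
structure Stage where
  /-- the functor -/
  F : C ⥤ Type u
  cof : IsCofiltered F.Elements
  /-- the element -/
  x : F.obj U
  inv : Inv J F S x

variable (hS : S ∉ J U)

/-- The first functor. -/
noncomputable abbrev fiber₀ (U : C) : C ⥤ Type u :=
  ofIsCofiltered.fiber.{u} (Functor.fromPUnit.{0} U)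

include hS in
theorem nonempty_stage : Nonempty (Stage J S) := by
  refine ⟨⟨fiber₀ U, inferInstance, ofIsCofiltered.fiberMk (p := Functor.fromPUnit.{0} U) (U := ⟨⟨⟩⟩) (𝟙 U),
    fun e v hcov => hS ?_⟩⟩
  obtain ⟨A, q, hq⟩ := ofIsCofiltered.fiberMk_jointly_surjective (p := Functor.fromPUnit.{0} U) e.2
  obtain ⟨V, g, hg⟩ := ofIsCofiltered.exists_of_fiberMk_eq_fiberMk (p := Functor.fromPUnit.{0} U)
    (f₁ := q ≫ v.1) (f₂ := 𝟙 U) (by
      rw [← ofIsCofiltered.fiber_map_fiberMk, hq]
      exact v.2)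
  have hqv : q ≫ v.1 = 𝟙 U := by simpa using hg
  have := J.pullback_stable q hcov
  rwa [← Sieve.pullback_comp, hqv, Sieve.pullback_id] at this

omit [HasFiniteLimits C] in
lemma coherent_elements {G : ℕ ⥤ C ⥤ Type u} {c : Cocone G} (hc : IsColimit c)
    (h : ∀ n, IsCofiltered (G.obj n).Elements) : IsCofiltered c.pt.Elements := by
  have hX : ∀ X : C, IsColimit (((evaluation C (Type u)).obj X).mapCocone c) := fun X => isColimitOfPreserves _ hc
  have hsurj : ∀ (X : C) (y : c.pt.obj X), ∃ (n : ℕ) (z : (G.obj n).obj X), (c.ι.app n).app X z = y := fun X y =>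
    Types.jointly_surjective_of_isColimit (hX X) y
  have hnat : ∀ (n : ℕ) {X Y : C} (f : X ⟶ Y) (z : (G.obj n).obj X),
      c.pt.map f ((c.ι.app n).app X z) = (c.ι.app n).app Y ((G.obj n).map f z) := fun n X Y f z =>
    (NatTrans.naturality_apply (c.ι.app n) f z).symm
  have hw : ∀ {n m : ℕ} (φ : n ⟶ m) (X : C) (z : (G.obj n).obj X),
      (c.ι.app m).app X ((G.map φ).app X z) = (c.ι.app n).app X z := fun φ X z =>
    congrArg (fun q => q.app X z) (c.w φ)
  haveI : Nonempty c.pt.Elements := by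
    obtain ⟨X, z⟩ := (h 0).nonempty.some
    exact ⟨⟨X, (c.ι.app 0).app X z⟩⟩
  refine { cone_objs := fun a b => ?_, cone_maps := fun a b f g => ?_ }
  · obtain ⟨n, z, hz⟩ := hsurj a.1 a.2
    obtain ⟨m, z', hz'⟩ := hsurj b.1 b.2
    haveI := h (max n m)
    let p := (G.map (homOfLE (le_max_left n m))).app a.1 z
    let q := (G.map (homOfLE (le_max_right n m))).app b.1 z'
    let w := IsCofiltered.min ((G.obj (max n m)).elementsMk a.1 p) ((G.obj (max n m)).elementsMk b.1 q)
    let l : w ⟶ (G.obj (max n m)).elementsMk a.1 p := IsCofiltered.minToLeft _ _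
    let r : w ⟶ (G.obj (max n m)).elementsMk b.1 q := IsCofiltered.minToRight _ _
    refine ⟨⟨w.1, (c.ι.app (max n m)).app w.1 w.2⟩, CategoryOfElements.homMk _ _ l.1 ?_,
      CategoryOfElements.homMk _ _ r.1 ?_, trivial⟩
    · rw [hnat, l.2]
      exact (hw (homOfLE (le_max_left n m)) a.1 z).trans hz
    · rw [hnat, r.2]
      exact (hw (homOfLE (le_max_right n m)) b.1 z').trans hz'
  · obtain ⟨n, z, hz⟩ := hsurj a.1 a.2
    have he : (c.ι.app n).app b.1 ((G.obj n).map f.1 z) = (c.ι.app n).app b.1 ((G.obj n).map g.1 z) := by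
      rw [← hnat, ← hnat, hz, f.2, g.2]
    obtain ⟨m, φ, hm⟩ := (Types.FilteredColimit.isColimit_eq_iff' (hX b.1) _ _).1 he
    haveI := h m
    let p := (G.map φ).app a.1 z
    let f' : (G.obj m).elementsMk a.1 p ⟶ (G.obj m).elementsMk b.1 ((G.map φ).app b.1 ((G.obj n).map f.1 z)) :=
      CategoryOfElements.homMk _ _ f.1 (NatTrans.naturality_apply (G.map φ) f.1 z).symm
    let g' : (G.obj m).elementsMk a.1 p ⟶ (G.obj m).elementsMk b.1 ((G.map φ).app b.1 ((G.obj n).map f.1 z)) :=
      CategoryOfElements.homMk _ _ g.1 ((NatTrans.naturality_apply (G.map φ) g.1 z).symm.trans hm.symm)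
    refine ⟨⟨(IsCofiltered.eq f' g').1, (c.ι.app m).app _ (IsCofiltered.eq f' g').2⟩,
      CategoryOfElements.homMk _ _ (IsCofiltered.eqHom f' g').1 ?_,
      ?_⟩
    swap
    · have hk := congrArg (fun k => k.1) (IsCofiltered.eq_condition f' g')
      exact Subtype.ext hk
    rw [hnat, (IsCofiltered.eqHom f' g').2]
    exact (hw φ a.1 z).trans hz

variable (hJ : ∀ (U : C) (S : Sieve U), S ∈ J U →
  ∃ (n : ℕ) (V : Fin n → C) (g : ∀ k, V k ⟶ U), (∀ k, S (g k)) ∧ Sieve.ofArrows V g ∈ J U)

include hS hJ in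
theorem exists_point : ∃ (Φ : GrothendieckTopology.Point.{u} J) (x : Φ.fiber.obj U),
    ∀ (Y : C) (g : Y ⟶ U), S g → ∀ y : Φ.fiber.obj Y, Φ.fiber.map g y ≠ x := by
  obtain ⟨s₀⟩ := nonempty_stage S hS
  have hstep : ∀ s : Stage J S, ∃ (s' : Stage J S) (η : s.F ⟶ s'.F), η.app U s.x = s'.x ∧
      ∀ t : Task J s.F, ∃ (k : Fin t.n) (y : s'.F.obj (t.V k)), s'.F.map (t.g k) y = η.app t.e.1 t.e.2 := by
    intro s
    haveI := s.cof
    obtain ⟨F', η, h₁, h₂, h₃⟩ := exists_next S s.x s.inv
    exact ⟨⟨F', h₁, η.app U s.x, h₂⟩, η, rfl, h₃⟩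
  choose next η hx hsolve using hstep
  let st : ℕ → Stage J S := fun n => Nat.rec s₀ (fun _ s => next s) n
  let G : ℕ ⥤ C ⥤ Type u := Functor.ofSequence (X := fun n => (st n).F) (fun n => η (st n))
  let c := colimit.cocone G
  have hc : IsColimit c := colimit.isColimit G
  haveI : IsCofiltered c.pt.Elements := coherent_elements hc fun n => (st n).cof
  have hsurj : ∀ (X : C) (y : c.pt.obj X), ∃ (n : ℕ) (z : (G.obj n).obj X), (c.ι.app n).app X z = y := fun X y =>
    Types.jointly_surjective_of_isColimit (isColimitOfPreserves ((evaluation C (Type u)).obj X) hc) y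
  have hmap : ∀ n, G.map (homOfLE (Nat.le_add_right n 1)) = η (st n) := fun n =>
    Functor.ofSequence_map_homOfLE_succ (fun n => η (st n)) n
  have hxc : ∀ n, (c.ι.app n).app U (st n).x = (c.ι.app 0).app U (st 0).x := by
    intro n
    induction n with
    | zero => rfl
    | succ n ih =>
      rw [← ih]
      have := congrArg (fun q => q.app U (st n).x) (c.w (homOfLE (Nat.le_add_right n 1)))
      refine Eq.trans ?_ this
      refine congrArg ((c.ι.app (n + 1)).app U) ?_
      rw [hmap]
      exact (hx (st n)).symm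
  refine ⟨{ fiber := c.pt
            initiallySmall := initiallySmall_of_essentiallySmall _
            jointly_surjective := fun {X} R hR y => ?_ }, (c.ι.app 0).app U (st 0).x, fun Y g hg y hy => ?_⟩
  · obtain ⟨n, z, rfl⟩ := hsurj X y
    obtain ⟨m, V, g, hg, hcov⟩ := hJ X R hR
    obtain ⟨k, w, hw⟩ := hsolve (st n) ⟨⟨X, z⟩, m, V, g, hcov⟩
    refine ⟨V k, g k, hg k, (c.ι.app (n + 1)).app _ w, ?_⟩
    refine (NatTrans.naturality_apply (c.ι.app (n + 1)) (g k) w).symm.trans ?_
    refine (congrArg ((c.ι.app (n + 1)).app X) hw).trans ?_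
    rw [← hmap]
    exact congrArg (fun q => q.app X z) (c.w (homOfLE (Nat.le_add_right n 1)))
  · obtain ⟨n, z, rfl⟩ := hsurj Y y
    rw [← hxc n] at hy
    have he : (c.ι.app n).app U ((G.obj n).map g z) = (c.ι.app n).app U (st n).x :=
      (NatTrans.naturality_apply (c.ι.app n) g z).trans hy
    obtain ⟨m, φ, hm⟩ := (Types.FilteredColimit.isColimit_eq_iff'
      (isColimitOfPreserves ((evaluation C (Type u)).obj U) hc) _ _).1 he
    have hxm : ∀ (m : ℕ) (φ : n ⟶ m), (G.map φ).app U (st n).x = (st m).x := by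
      intro m φ
      obtain ⟨k, rfl⟩ := Nat.exists_eq_add_of_le (leOfHom φ)
      induction k with
      | zero =>
        rw [Subsingleton.elim φ (𝟙 n), G.map_id]
        rfl
      | succ k ih =>
        rw [Subsingleton.elim φ (homOfLE (Nat.le_add_right n k) ≫ homOfLE (Nat.le_add_right (n + k) 1)),
          G.map_comp, hmap]
        exact (congrArg ((η (st (n + k))).app U) (ih _)).trans (hx (st (n + k)))
    refine (st m).inv ((st m).F.elementsMk Y ((G.map φ).app Y z))
      (CategoryOfElements.homMk _ _ g ?_) ?_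
    · exact (NatTrans.naturality_apply (G.map φ) g z).symm.trans (hm.trans (hxm m φ))
    · show S.pullback g ∈ J Y
      rw [S.pullback_eq_top_of_mem hg]
      exact J.top_mem Y

include hJ in
theorem hasEnoughPoints : GrothendieckTopology.HasEnoughPoints.{u} J := by
  let ι := Σ U : C, {S : Sieve U // S ∉ J U}
  choose Φ x hΦ using fun i : ι => exists_point i.2.1 i.2.2 hJ
  refine ⟨ObjectProperty.ofObj Φ, inferInstance, ObjectProperty.IsConservativeFamilyOfPoints.mk' fun {X} S hS => ?_⟩
  by_contra hcov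
  obtain ⟨Y, g, hg, y, hy⟩ := hS ⟨Φ ⟨X, S, hcov⟩, ObjectProperty.ofObj_apply Φ _⟩ (x ⟨X, S, hcov⟩)
  exact hΦ ⟨X, S, hcov⟩ Y g hg y hy

end Groth.Agent.DeligneLib
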