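import Mathlib.CategoryTheory.Sites.Point.OfIsCofiltered
import Mathlib.CategoryTheory.Limits.Shapes.FiniteLimits
import Mathlib.CategoryTheory.Limits.Shapes.WidePullbacks
import Mathlib.CategoryTheory.CofilteredSystem
import Mathlib.Data.Fintype.Sum
import Mathlib.Data.Fintype.Pi
import Mathlib.Data.Fintype.Option

/-!
# Deligne's construction of points: one round

Given a flat functor and an element at which a sieve is nowhere covering, we construct a larger one in
which all finite coverings of elements of the first one are realised.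
-/

set_option autoImplicit false
set_option backward.isDefEq.respectTransparency false
set_option linter.unusedVariables false

universe u

open CategoryTheory CategoryTheory.Limits Opposite GrothendieckTopology.Point

namespace Groth.Agent.DeligneLib

theorem exists_eq_all {E : Type*} [Category E] [IsCofiltered E] {I : Type*} [Finite I] {m : E} (z : I → E)
    (f g : ∀ i, m ⟶ z i) : ∃ (m' : E) (r : m' ⟶ m), ∀ i, r ≫ f i = r ≫ g i := by
  classical
  cases nonempty_fintype I
  suffices h : ∀ s : Finset I, ∃ (m' : E) (r : m' ⟶ m), ∀ i ∈ s, r ≫ f i = r ≫ g i by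
    obtain ⟨m', r, hr⟩ := h Finset.univ
    exact ⟨m', r, fun i => hr i (Finset.mem_univ i)⟩
  intro s
  induction s using Finset.induction with
  | empty => exact ⟨m, 𝟙 m, fun i hi => absurd hi (Finset.notMem_empty i)⟩
  | @insert a s ha ih =>
    obtain ⟨m', r, hr⟩ := ih
    refine ⟨IsCofiltered.eq (r ≫ f a) (r ≫ g a), IsCofiltered.eqHom (r ≫ f a) (r ≫ g a) ≫ r, fun i hi => ?_⟩
    rcases Finset.mem_insert.1 hi with rfl | hi
    · simpa only [Category.assoc] using IsCofiltered.eq_condition (r ≫ f i) (r ≫ g i)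
    · rw [Category.assoc, Category.assoc, hr i hi]

theorem exists_cone {E : Type*} [Category E] [IsCofiltered E] {I : Type*} [Finite I] (z : I → E) :
    ∃ m : E, Nonempty (∀ i, m ⟶ z i) := by
  classical
  cases nonempty_fintype I
  obtain ⟨m, hm⟩ := IsCofiltered.inf_objs_exists (Finset.univ.image z)
  exact ⟨m, ⟨fun i => (hm (Finset.mem_image_of_mem z (Finset.mem_univ i))).some⟩⟩

variable {C : Type u} [SmallCategory C] [HasFiniteLimits C] (J : GrothendieckTopology C) (F : C ⥤ Type u)

/-- A finite covering of an element. -/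
structure Task where
  /-- the element -/
  e : F.Elements
  /-- the number of members -/
  n : ℕ
  /-- the members -/
  V : Fin n → C
  /-- the arrows -/
  g : ∀ k, V k ⟶ e.1
  mem : Sieve.ofArrows V g ∈ J e.1

variable {J F}

section Obj

variable {T : Finset (Task J F)} (d : ∀ t : T, Fin t.1.n) {e : F.Elements} (a : ∀ t : T, e ⟶ t.1.e)

/-- The fibre product realising the chosen members. -/
noncomputable def Q : C :=
  widePullback e.1 (fun t : T => pullback (a t).1 (t.1.g (d t))) (fun t => pullback.fst _ _)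

/-- The structure map. -/
noncomputable def Q.base : Q d a ⟶ e.1 := WidePullback.base _

variable {T' : Finset (Task J F)} {d' : ∀ t : T', Fin t.1.n} {e' : F.Elements} {a' : ∀ t : T', e' ⟶ t.1.e}

/-- Functoriality of the fibre products. -/
noncomputable def Q.map (g : e' ⟶ e) (h : T ⊆ T') (ha : ∀ t : T, g ≫ a t = a' ⟨t.1, h t.2⟩)
    (hd : ∀ t : T, d t = d' ⟨t.1, h t.2⟩) : Q d' a' ⟶ Q d a :=
  WidePullback.lift (WidePullback.base _ ≫ g.1)
    (fun t => pullback.lift (WidePullback.π _ (⟨t.1, h t.2⟩ : T') ≫ pullback.fst _ _ ≫ g.1)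
      (WidePullback.π _ (⟨t.1, h t.2⟩ : T') ≫ pullback.snd _ _ ≫ eqToHom (congrArg t.1.V (hd t).symm)) (by
        have hg : g.1 ≫ (a t).1 = (a' ⟨t.1, h t.2⟩).1 := congrArg Subtype.val (ha t)
        have hV : ∀ {k l : Fin t.1.n} (e : k = l), eqToHom (congrArg t.1.V e) ≫ t.1.g l = t.1.g k := by
          intro k l e
          subst e
          simp
        simp only [Category.assoc, hg]
        rw [pullback.condition]
        exact congrArg _ (congrArg _ (hV (hd t).symm).symm)))
    (fun t => by
      rw [pullback.lift_fst, ← Category.assoc]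
      exact congrArg (· ≫ g.1) (WidePullback.π_arrow _ _))

lemma Q.map_base (g : e' ⟶ e) (h : T ⊆ T') (ha : ∀ t : T, g ≫ a t = a' ⟨t.1, h t.2⟩)
    (hd : ∀ t : T, d t = d' ⟨t.1, h t.2⟩) : Q.map d a g h ha hd ≫ Q.base d a = Q.base d' a' ≫ g.1 :=
  WidePullback.lift_base _ _ _ _

end Obj

variable {U : C} (S : Sieve U) (x : F.obj U)

/-- The sieve is nowhere covering at the element. -/
def Inv (J : GrothendieckTopology C) (F : C ⥤ Type u) {U : C} (S : Sieve U) (x : F.obj U) : Prop :=
  ∀ e : F.Elements, ∀ v : e ⟶ F.elementsMk U x, S.pullback v.1 ∉ J e.1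

/-- Admissible choices. -/
def Good (T : Finset (Task J F)) (d : ∀ t : T, Fin t.1.n) : Prop :=
  ∀ (e : F.Elements) (a : ∀ t : T, e ⟶ t.1.e) (v : e ⟶ F.elementsMk U x),
    S.pullback (Q.base d a ≫ v.1) ∉ J (Q d a)

variable [IsCofiltered F.Elements]

theorem exists_good (hinv : Inv J F S x) (T : Finset (Task J F)) : ∃ d, Good S x T d := by
  classical
  by_contra hne
  simp only [Good, not_exists, not_forall, not_not] at hne
  choose e a v hcov using hne
  let I := Option (((∀ t : T, Fin t.1.n)) ⊕ T)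
  haveI : Finite I := inferInstanceAs (Finite (Option ((∀ t : T, Fin t.1.n) ⊕ T)))
  obtain ⟨m, ⟨r⟩⟩ := exists_cone (fun i : I => match i with
    | none => F.elementsMk U x
    | some (.inl d) => e d
    | some (.inr t) => t.1.e)
  obtain ⟨m', s, hs⟩ := exists_eq_all (m := m)
    (fun p : (∀ t : T, Fin t.1.n) × Option T => match p.2 with
      | none => F.elementsMk U x
      | some t => t.1.e)
    (fun p => match p.2 with
      | none => r (some (.inl p.1)) ≫ v p.1
      | some t => r (some (.inl p.1)) ≫ a p.1 t)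
    (fun p => match p.2 with
      | none => r none
      | some t => r (some (.inr t)))
  let a₀ : ∀ t : T, m' ⟶ t.1.e := fun t => s ≫ r (some (.inr t))
  refine hinv m' (s ≫ r none) ?_
  have hR : ∀ W : Finset T, ∃ R ∈ J m'.1, ∀ ⦃Z : C⦄ (h : Z ⟶ m'.1), R h → ∀ t ∈ W,
      Sieve.ofArrows t.1.V t.1.g (h ≫ (a₀ t).1) := by
    intro W
    induction W using Finset.induction with
    | empty => exact ⟨⊤, J.top_mem _, fun Z h _ t ht => absurd ht (Finset.notMem_empty t)⟩
    | @insert t W ht ih =>
      obtain ⟨R, hR, hR'⟩ := ih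
      refine ⟨R ⊓ (Sieve.ofArrows t.1.V t.1.g).pullback (a₀ t).1,
        J.intersection_covering hR (J.pullback_stable _ t.1.mem), fun Z h hh t' ht' => ?_⟩
      rcases Finset.mem_insert.1 ht' with rfl | ht'
      · exact hh.2
      · exact hR' h hh.1 t' ht'
  obtain ⟨R, hR, hR'⟩ := hR Finset.univ
  refine J.transitive hR _ fun Z h hh => ?_
  have hfac : ∀ t : T, ∃ (k : Fin t.1.n) (b : Z ⟶ t.1.V k), b ≫ t.1.g k = h ≫ (a₀ t).1 := fun t => by
    obtain ⟨Y, b, f, ⟨k⟩, hb⟩ := hR' h hh t (Finset.mem_univ t)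
    exact ⟨k, b, hb⟩
  choose d b hb using hfac
  let g : m' ⟶ e d := s ≫ r (some (.inl d))
  have hga : ∀ t, g ≫ a d t = a₀ t := fun t => (Category.assoc _ _ _).trans (hs (d, some t))
  let l : Z ⟶ Q d a₀ := WidePullback.lift h (fun t => pullback.lift h (b t) (hb t).symm)
    (fun t => pullback.lift_fst _ _ _)
  have hl : l ≫ Q.base d a₀ = h := WidePullback.lift_base _ _ _ _
  have := J.pullback_stable (l ≫ Q.map d (a d) g (Finset.Subset.refl _) hga fun _ => rfl) (hcov d)
  rw [← Sieve.pullback_comp] at this ⊢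
  convert this using 2
  rw [Category.assoc, ← Category.assoc (Q.map d (a d) g _ _ _), Q.map_base, Category.assoc, ← Category.assoc l, hl]
  exact congrArg (h ≫ ·) (congrArg Subtype.val (((Category.assoc _ _ _).trans (hs (d, none))).symm))

theorem Good.restrict {T T' : Finset (Task J F)} (h : T ⊆ T') {d' : ∀ t : T', Fin t.1.n} (hd : Good S x T' d') :
    Good S x T fun t => d' ⟨t.1, h t.2⟩ := by
  classical
  intro e a v hcov
  obtain ⟨m, ⟨r⟩⟩ := exists_cone (fun i : Option T' => match i with
    | none => e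
    | some t => t.1.e)
  obtain ⟨m', s, hs⟩ := exists_eq_all (m := m) (fun t : T => t.1.e) (fun t => r none ≫ a t)
    (fun t => r (some ⟨t.1, h t.2⟩))
  let g : m' ⟶ e := s ≫ r none
  refine hd m' (fun t => s ≫ r (some t)) (g ≫ v) ?_
  have := J.pullback_stable (Q.map (fun t : T => d' ⟨t.1, h t.2⟩) a (d' := d')
    (a' := fun t => s ≫ r (some t)) g h (fun t => (Category.assoc _ _ _).trans (hs t)) fun _ => rfl) hcov
  rw [← Sieve.pullback_comp] at this
  convert this using 2
  rw [← Category.assoc, Q.map_base, Category.assoc]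
  simp [g]

theorem exists_choice (hinv : Inv J F S x) :
    ∃ c : ∀ t : Task J F, Fin t.n, ∀ T : Finset (Task J F), Good S x T fun t => c t.1 := by
  classical
  let G : (Finset (Task J F))ᵒᵖ ⥤ Type u :=
    { obj := fun T => {d : ∀ t : T.unop, Fin t.1.n // Good S x T.unop d}
      map := fun {T T'} f => TypeCat.ofHom fun d => ⟨_, d.2.restrict S x (leOfHom f.unop)⟩
      map_id := fun T => rfl
      map_comp := fun f g => rfl }
  haveI : ∀ T, Finite (G.obj T) := fun T => inferInstanceAs (Finite {d : ∀ t : T.unop, Fin t.1.n // _})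
  haveI : ∀ T, Nonempty (G.obj T) := fun T =>
    let ⟨d, hd⟩ := exists_good S x hinv T.unop
    ⟨⟨d, hd⟩⟩
  obtain ⟨σ, hσ⟩ := nonempty_sections_of_finite_inverse_system G
  refine ⟨fun t => (σ (op {t})).1 ⟨t, Finset.mem_singleton_self t⟩, fun T => ?_⟩
  convert (σ (op T)).2 using 1
  funext t
  have := congrArg (fun q => q.1 (⟨t.1, Finset.mem_singleton_self t.1⟩ : ({t.1} : Finset (Task J F))))
    (hσ (homOfLE (Finset.singleton_subset_iff.2 t.2) : ({t.1} : Finset (Task J F)) ⟶ T).op)
  exact this.symm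

section Round

variable (c : ∀ t : Task J F, Fin t.n)

/-- The index category of the next round. -/
structure RObj (c : ∀ t : Task J F, Fin t.n) where
  /-- the element -/
  e : F.Elements
  /-- the tasks -/
  T : Finset (Task J F)
  /-- the maps to the tasks -/
  a : ∀ t : T, e ⟶ t.1.e

instance : SmallCategory (RObj c) where
  Hom A B := {g : A.e ⟶ B.e // ∃ h : B.T ⊆ A.T, ∀ t : B.T, g ≫ B.a t = A.a ⟨t.1, h t.2⟩}
  id A := ⟨𝟙 _, Finset.Subset.refl _, fun t => Category.id_comp _⟩
  comp f g := ⟨f.1 ≫ g.1, g.2.choose.trans f.2.choose, fun t => by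
    rw [Category.assoc, g.2.choose_spec t, f.2.choose_spec]⟩
  id_comp f := Subtype.ext (Category.id_comp _)
  comp_id f := Subtype.ext (Category.comp_id _)
  assoc f g h := Subtype.ext (Category.assoc _ _ _)

/-- The objects of the next round. -/
noncomputable def rFun : RObj c ⥤ C where
  obj A := Q (fun t : A.T => c t.1) A.a
  map {A B} f := Q.map _ _ f.1 f.2.choose f.2.choose_spec fun _ => rfl
  map_id A := by
    refine WidePullback.hom_ext _ _ _ (fun t => pullback.hom_ext ?_ ?_) ?_
    · simp [Q.map, Q]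
      exact Category.comp_id _
    · simp [Q.map, Q]
    · simp [Q.map, Q]
      exact Category.comp_id _
  map_comp {A B D} f g := by
    refine WidePullback.hom_ext _ _ _ (fun t => pullback.hom_ext ?_ ?_) ?_
    · simp [Q.map, Q]
      rfl
    · simp [Q.map, Q]
    · simp [Q.map, Q]
      rfl

/-- An element as an object of the next round. -/
def RObj.ofElement (e : F.Elements) : RObj c := ⟨e, ∅, fun t => absurd t.2 (Finset.notMem_empty t.1)⟩

instance : IsCofiltered (RObj c) where
  nonempty := ⟨RObj.ofElement c (IsCofiltered.nonempty (C := F.Elements)).some⟩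
  cone_objs A B := by
    classical
    obtain ⟨m, ⟨r⟩⟩ := exists_cone (fun i : Bool ⊕ (A.T ∪ B.T : Finset _) => match i with
      | .inl true => A.e
      | .inl false => B.e
      | .inr t => t.1.e)
    obtain ⟨m', s, hs⟩ := exists_eq_all (m := m)
      (fun p : A.T ⊕ B.T => match p with
        | .inl t => t.1.e
        | .inr t => t.1.e)
      (fun p => match p with
        | .inl t => r (.inl true) ≫ A.a t
        | .inr t => r (.inl false) ≫ B.a t)
      (fun p => match p with
        | .inl t => r (.inr ⟨t.1, Finset.mem_union_left _ t.2⟩)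
        | .inr t => r (.inr ⟨t.1, Finset.mem_union_right _ t.2⟩))
    exact ⟨⟨m', A.T ∪ B.T, fun t => s ≫ r (.inr t)⟩,
      ⟨s ≫ r (.inl true), Finset.subset_union_left, fun t => (Category.assoc _ _ _).trans (hs (.inl t))⟩,
      ⟨s ≫ r (.inl false), Finset.subset_union_right, fun t => (Category.assoc _ _ _).trans (hs (.inr t))⟩,
      trivial⟩
  cone_maps A B f g := ⟨⟨IsCofiltered.eq f.1 g.1, A.T, fun t => IsCofiltered.eqHom f.1 g.1 ≫ A.a t⟩,
    ⟨IsCofiltered.eqHom f.1 g.1, Finset.Subset.refl _, fun t => rfl⟩,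
    Subtype.ext (IsCofiltered.eq_condition f.1 g.1)⟩

instance : InitiallySmall.{u} (RObj c) := initiallySmall_of_essentiallySmall _

/-- The next functor. -/
noncomputable def next : C ⥤ Type u := ofIsCofiltered.fiber.{u} (rFun c)

/-- The comparison with the next functor. -/
noncomputable def toNext : F ⟶ next c where
  app X := TypeCat.ofHom fun y => ofIsCofiltered.fiberMk (p := rFun c) (U := RObj.ofElement c (F.elementsMk X y))
    (Q.base _ _)
  naturality X Y f := by
    ext y
    refine Eq.trans ?_ (ofIsCofiltered.fiber_map_fiberMk (rFun c) _ f).symm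
    let φ : RObj.ofElement c (F.elementsMk X y) ⟶ RObj.ofElement c (F.elementsMk Y (F.map f y)) :=
      ⟨CategoryOfElements.homMk (F.elementsMk X y) (F.elementsMk Y (F.map f y)) f rfl, Finset.Subset.refl _,
        fun t => absurd t.2 (Finset.notMem_empty t.1)⟩
    refine (ofIsCofiltered.fiberMk_map_comp (rFun c) φ _).symm.trans ?_
    exact congrArg _ (Q.map_base _ _ φ.1 φ.2.choose φ.2.choose_spec fun _ => rfl)

theorem inv_next (hc : ∀ T : Finset (Task J F), Good S x T fun t => c t.1) :
    Inv J (next c) S ((toNext c).app U x) := by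
  intro e v hcov
  obtain ⟨A, q, hq⟩ := ofIsCofiltered.fiberMk_jointly_surjective (p := rFun c) e.2
  let A₀ := RObj.ofElement c (F.elementsMk U x)
  let B := IsCofiltered.min A A₀
  have h : ofIsCofiltered.fiberMk (p := rFun c) ((rFun c).map (IsCofiltered.minToLeft A A₀) ≫ q ≫ v.1) =
      ofIsCofiltered.fiberMk (p := rFun c) ((rFun c).map (IsCofiltered.minToRight A A₀) ≫ Q.base _ _) := by
    rw [ofIsCofiltered.fiberMk_map_comp, ofIsCofiltered.fiberMk_map_comp, ← ofIsCofiltered.fiber_map_fiberMk, hq]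
    exact v.2
  obtain ⟨B', w, hw⟩ := ofIsCofiltered.exists_of_fiberMk_eq_fiberMk h
  refine hc B'.T B'.e B'.a ((w.1 ≫ (IsCofiltered.minToRight A A₀).1)) ?_
  have := J.pullback_stable ((rFun c).map (w ≫ IsCofiltered.minToLeft A A₀) ≫ q) hcov
  rw [← Sieve.pullback_comp] at this
  have e' : ((rFun c).map (w ≫ IsCofiltered.minToLeft A A₀) ≫ q) ≫ v.1 =
      Q.base (fun t : B'.T => c t.1) B'.a ≫ (w.1 ≫ (IsCofiltered.minToRight A A₀).1).1 := by
    rw [Category.assoc, Functor.map_comp, Category.assoc, hw, ← Category.assoc, ← Functor.map_comp]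
    exact Q.map_base (fun t : A₀.T => c t.1) A₀.a _
      (w ≫ IsCofiltered.minToRight A A₀).2.choose (w ≫ IsCofiltered.minToRight A A₀).2.choose_spec fun _ => rfl
  rw [e'] at this
  exact this

omit [IsCofiltered F.Elements] in
theorem solved_next (t : Task J F) :
    ∃ (k : Fin t.n) (y : (next c).obj (t.V k)), (next c).map (t.g k) y = (toNext c).app t.e.1 t.e.2 := by
  classical
  let A : RObj c := ⟨t.e, {t}, fun t' => eqToHom (by rw [Finset.mem_singleton.1 t'.2])⟩
  refine ⟨c t, ofIsCofiltered.fiberMk (p := rFun c) (U := A)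
    (WidePullback.π _ (⟨t, Finset.mem_singleton_self t⟩ : ({t} : Finset (Task J F))) ≫ pullback.snd _ _), ?_⟩
  refine (ofIsCofiltered.fiber_map_fiberMk (rFun c) _ _).trans ?_
  let φ : A ⟶ RObj.ofElement c (F.elementsMk t.e.1 t.e.2) :=
    ⟨𝟙 _, Finset.empty_subset _, fun t' => absurd t'.2 (Finset.notMem_empty t'.1)⟩
  refine Eq.trans ?_ (ofIsCofiltered.fiberMk_map_comp (rFun c) φ _)
  refine congrArg _ (Eq.trans ?_ (Q.map_base _ _ φ.1 φ.2.choose φ.2.choose_spec fun _ => rfl).symm)
  rw [Category.assoc, ← pullback.condition]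
  refine Eq.trans ?_ (congrArg (· ≫ φ.1.1) (WidePullback.π_arrow _ (⟨t, Finset.mem_singleton_self t⟩ : A.T)))
  simp [A, φ]

end Round

theorem exists_next (hinv : Inv J F S x) :
    ∃ (F' : C ⥤ Type u) (η : F ⟶ F'), IsCofiltered F'.Elements ∧ Inv J F' S (η.app U x) ∧
      ∀ t : Task J F, ∃ (k : Fin t.n) (y : F'.obj (t.V k)), F'.map (t.g k) y = η.app t.e.1 t.e.2 := by
  obtain ⟨c, hc⟩ := exists_choice S x hinv
  exact ⟨next c, toNext c, inferInstanceAs (IsCofiltered (ofIsCofiltered.fiber.{u} (rFun c)).Elements),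
    inv_next S x c hc, solved_next c⟩

end Groth.Agent.DeligneLib
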